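import Cfsg.Agent.H619.BD.KData
import Cfsg.Agent.H693.Sch.Baby
import Cfsg.Agent.H693.Sch.Monster
import Cfsg.Agent.H419.Spor.Baby

/-!
# S4932: the data `KD 2 S`, `KD 3 S` for the Baby Monster and the Monster (helper58)

* `BM.b_two`, `BM.b_three` : the Baby Monster;
* `BM.m_two`, `BM.m_three` : the Monster.
-/

set_option autoImplicit false

open Cfsg

namespace Cfsg.Agent.H58.BD.BM

open Cfsg.Agent.H619.BD Cfsg.Agent.H619.R4
open Cfsg.Agent.Characters Cfsg.Agent.Characters.Core

universe u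

/-! ### The Baby Monster -/

namespace Baby

open Cfsg.Agent.BabyM.Inst Cfsg.Agent.H995 Cfsg.Agent.H995.BSch Cfsg.Agent.H995.BSchVal Cfsg.Agent.H995.IMB
  Cfsg.Agent.H816.IMEig Cfsg.Agent.H816.IMEig.Col

/-- An element of order `46` of the model. -/
theorem order46 : ∃ u : M.G, orderOf u = 46 := by
  have A := Cfsg.Agent.BabyM.Instance.all
  have := A.finite_G
  have hz : M.z ∈ M.G := A.C_le_G (A.grp.Q_le A.grp.z_mem)
  set z : M.G := ⟨M.z, hz⟩ with hzdef
  have hz2 : orderOf z = 2 := by
    refine orderOf_eq_prime ?_ fun h => A.grp.z_ne (congrArg Subtype.val h)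
    rw [pow_two]
    exact Subtype.ext A.grp.z_sq
  have hC : Nat.card M.C = 2 ^ 23 * 42305421312000 := A.grp.card_C
  have hle : M.C.subgroupOf M.G ≤ Subgroup.centralizer ({z} : Set M.G) := by
    intro x hx
    rw [Subgroup.mem_centralizer_singleton_iff]
    exact Subtype.ext (A.grp.z_comm x hx)
  have hd : 23 ∣ Nat.card (Subgroup.centralizer ({z} : Set M.G)) := by
    refine dvd_trans ?_ (Subgroup.card_dvd_of_le hle)
    rw [Nat.card_congr (Subgroup.subgroupOfEquivOfLe (show M.C ≤ M.G from fun x hx => A.C_le_G hx)).toEquiv,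
      hC]
    norm_num
  have : Fact (Nat.Prime 23) := ⟨by norm_num⟩
  obtain ⟨⟨y, hy⟩, hy2⟩ := exists_prime_orderOf_dvd_card' 23 hd
  rw [Subgroup.orderOf_mk] at hy2
  have hc : Commute z y := (Subgroup.mem_centralizer_singleton_iff.1 hy).symm
  refine ⟨z * y, ?_⟩
  rw [hc.orderOf_mul_eq_mul_orderOf_of_coprime (by rw [hz2, hy2]; norm_num), hz2, hy2]

/-- The trivial spherical function. -/
noncomputable def wt : Fin 5 → ℂ := fun _ => 1

/-- **The constituents.** -/
theorem constituent {θ : ℂ} {ω : Fin 5 → ℂ} (hE : Eig (1 : Fin 5) 0 t θ ω) {f : ℕ}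
    (hf : (f : ℂ) * ∑ u, ((∑ w, t u w : ℕ) : ℂ) * ω u ^ 2 = 13571955000) :
    ∃ χ : IrrCharacter M.G, (χ : M.G → ℂ) 1 = (f : ℂ) ∧ ∃ c' : M.G → ℂ, IsCharacter M.G c' ∧
      (fun g : M.G => (Nat.card (MulAction.fixedBy (X M) g) : ℂ)) = (χ : M.G → ℂ) + c' := by
  have hcol := sch.isCol BabyM.Instance.all BabyM.Instance.tr
  have hcard := card_X BabyM.Instance.all BabyM.Instance.tr
  have hfin : Finite (X M) := Nat.finite_of_card_ne_zero (by rw [hcard]; norm_num)
  obtain ⟨z₀, h1, h2⟩ := exists_z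
  refine exists_constituent hcol (x₀ := QuotientGroup.mk 1) (z₀ := z₀) (t := t) (θ := θ) (ω := ω) h2
    (by rw [h1]; exact hE) ?_
  rw [hcard, hf]
  norm_num

theorem eigt : Eig (1 : Fin 5) 0 t 3968055 wt where
  one := rfl
  eig := by
    intro u
    rw [kk_one]
    fin_cases u
    all_goals
      simp only [Fin.sum_univ_five]
      simp [t, wt]
      try norm_num
  uniq := by
    intro φ h
    rw [kk_one] at h
    have h0 := h 0
    have h1 := h 1
    have h2 := h 2
    have h3 := h 3
    have h4 := h 4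
    simp only [Fin.sum_univ_five] at h0 h1 h2 h3 h4
    simp [t] at h0 h1 h2 h3 h4
    have e1 : φ 1 = φ 0 := h0
    have e3 : 2097152 * φ 3 + 1824768 * φ 4 = 3921920 * φ 0 := by
      linear_combination (1/3968055) * h1 + (3968055 - 46134) * e1
    have e4 : 2097152 * φ 0 + 1868562432 * φ 4 = 1870659584 * φ 3 := by
      linear_combination (1/3968055) * h3 - 2097152 * e1
    have f3 : φ 3 = φ 0 := by
      linear_combination (1868562432 / (2097152 * 1868562432 + 1824768 * 1870659584)) * e3 -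
        (1824768 / (2097152 * 1868562432 + 1824768 * 1870659584)) * e4
    have f4 : φ 4 = φ 0 := by
      linear_combination (1 / 1868562432) * e4 + (1870659584 / 1868562432) * f3
    have f2 : φ 2 = φ 0 := by
      linear_combination f4 - (1 / (3968055 * 22708224)) * h2
    intro u
    fin_cases u
    · simp [wt]
    · simpa [wt] using e1
    · simpa [wt] using f2
    · simpa [wt] using f3
    · simpa [wt] using f4

/-- The five degrees. -/
def dd : Fin 5 → ℕ := ![1, 96255, 9458750, 4275362520, 9287037474]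

theorem hd (i : Fin 5) : ∃ χ : IrrCharacter M.G, (χ : M.G → ℂ) 1 = (dd i : ℂ) ∧ ∃ c' : M.G → ℂ, IsCharacter M.G c' ∧
      (fun g : M.G => (Nat.card (MulAction.fixedBy (X M) g) : ℂ)) = (χ : M.G → ℂ) + c' := by
  fin_cases i
  · refine constituent (f := 1) eigt ?_
    simp only [Fin.sum_univ_five]
    simp [t, wt]
    norm_num
  · refine constituent (f := 96255) eig0 ?_
    simp only [Fin.sum_univ_five]
    simp [t, IMB.w0]
    norm_num
  · refine constituent (f := 9458750) eig1 ?_
    simp only [Fin.sum_univ_five]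
    simp [t, IMB.w1]
    norm_num
  · refine constituent (f := 4275362520) eig2 ?_
    simp only [Fin.sum_univ_five]
    simp [t, IMB.w2]
    norm_num
  · refine constituent (f := 9287037474) eig3 ?_
    simp only [Fin.sum_univ_five]
    simp [t, IMB.w3]
    norm_num

theorem subsets : ∀ T : Finset (Fin 5), 0 ∈ T → (∑ i ∈ T, dd i) % 3 ^ 4 = 0 → T = Finset.univ := by
  decide +kernel

theorem b0 (i : Fin 5) : B0D 3 M.G (dd i) := by
  have hcard := card_X BabyM.Instance.all BabyM.Instance.tr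
  have hfin : Finite (X M) := Nat.finite_of_card_ne_zero (by rw [hcard]; norm_num)
  have hcol := sch.isCol BabyM.Instance.all BabyM.Instance.tr
  have hs : ∑ i, dd i = Nat.card (X M) := by
    rw [hcard]
    decide +kernel
  exact B0D.scheme (X := X M) (QuotientGroup.mk 1) (fun x => hcol.exists_smul _ x) (d := dd) rfl hd
    (by decide) hs (e := 4) (by decide +kernel) subsets i

end Baby

/-- **The Baby Monster, `p = 3`.** -/
theorem b_three {S : Type u} [Group S] (h : Spor.IsoB S) : KD 3 S := by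
  obtain ⟨e⟩ := h
  have : Finite Cfsg.Agent.BabyM.Inst.M.G := Cfsg.Agent.BabyM.Instance.all.finite_G
  let f : S ≃* Cfsg.Agent.BabyM.Inst.M.G := e.trans Cfsg.Agent.BM.KHAll.iso
  have h1 : B0D 3 S 96255 := (Baby.b0 1).congr f.symm
  have h2 : B0D 3 S 9458750 := (Baby.b0 2).congr f.symm
  exact KD.common 23 h1 h2 (by norm_num) (by norm_num) (by norm_num) (by norm_num) (by norm_num) (by norm_num)
    (by norm_num) (by norm_num) (by norm_num)

/-- **The Baby Monster, `p = 2`.** -/
theorem b_two {S : Type u} [Group S] (h : Spor.IsoB S) : KD 2 S := by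
  have hcard : Nat.card S = 4154781481226426191177580544000000 := by
    obtain ⟨e⟩ := h
    rw [Nat.card_congr e.toEquiv]
    exact BM.KHAll.isB.2
  have hfin : Finite S := Nat.finite_of_card_ne_zero (by rw [hcard]; norm_num)
  obtain ⟨χ, h1, h2, h3⟩ := Cfsg.Agent.H693.Sch.Baby.rat_b h (d := 96255) (by simp [Cfsg.Agent.H995.IMB.ds])
  have hb : B0D 2 S 96255 := B0D.of_rat χ.2 h3 h1 (by decide)
  obtain ⟨u, hu⟩ : ∃ u : S, orderOf u = 46 := by
    obtain ⟨e⟩ := h
    let f : S ≃* Cfsg.Agent.BabyM.Inst.M.G := e.trans Cfsg.Agent.BM.KHAll.iso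
    obtain ⟨u, hu⟩ := Baby.order46
    exact ⟨f.symm u, by rw [MulEquiv.orderOf_eq f.symm u, hu]⟩
  refine KD.zero 23 hb (by norm_num) (by norm_num) (by norm_num) (by norm_num) ?_ u (by rw [hu])
  rw [factorization_card hcard (k := 1) (by norm_num) (by norm_num) (by norm_num) (by norm_num)]
  norm_num

/-! ### The Monster -/

namespace Mon

open Cfsg.Agent.MonsterX.InstData
open Cfsg.Agent.H816 Cfsg.Agent.H816.MEigL Cfsg.Agent.H816.MSch Cfsg.Agent.H816.MDeg Cfsg.Agent.H816.IMEig

/-- **The constituents.** -/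
theorem constituent {P : Fin 9 → Fin 9 → ℤ} {θ D : ℤ} {ω : Fin 9 → ℤ} {R : Fin 9 → Fin 9 → ℤ} {r : Fin 9 → ℤ} {f : ℕ}
    (h : Dat MSch.t MSch.k P 2 θ D ω R r 97239461142009186000 f) :
    ∃ χ : IrrCharacter ↥M.G, (χ : ↥M.G → ℂ) 1 = (f : ℂ) ∧ ∃ c' : ↥M.G → ℂ, IsCharacter ↥M.G c' ∧
      (fun g : ↥M.G => (Nat.card (MulAction.fixedBy XT g) : ℂ)) = (χ : ↥M.G → ℂ) + c' := by
  have := finite_G
  have hE := h.toEig
  have hd := h.toDeg
  rw [← c_b1] at hE
  exact exists_constituent isCol MSch.tt_eq hE (by rw [card_XT]; exact hd)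

/-- The nine degrees. -/
def dd : Fin 9 → ℕ := ![1, 196883, 842609326, 18538750076, 36173193327999, 1109944460516150, 251098487132187500,
  49609712911192813665, 47377503606648784400]

theorem hd (i : Fin 9) : ∃ χ : IrrCharacter ↥M.G, (χ : ↥M.G → ℂ) 1 = (dd i : ℂ) ∧ ∃ c' : ↥M.G → ℂ,
      IsCharacter ↥M.G c' ∧ (fun g : ↥M.G => (Nat.card (MulAction.fixedBy XT g) : ℂ)) = (χ : ↥M.G → ℂ) + c' := by
  fin_cases i
  · exact constituent dat_1
  · exact constituent dat_196883
  · exact constituent dat_842609326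
  · exact constituent dat_18538750076
  · exact constituent dat_36173193327999
  · exact constituent dat_1109944460516150
  · exact constituent dat_251098487132187500
  · exact constituent dat_49609712911192813665
  · exact constituent dat_47377503606648784400

theorem subsets : ∀ T : Finset (Fin 9), 0 ∈ T → (∑ i ∈ T, dd i) % 3 ^ 7 = 0 → T = Finset.univ := by
  decide +kernel

theorem b0 (i : Fin 9) : B0D 3 ↥M.G (dd i) := by
  have := finite_G
  have hs : ∑ i, dd i = Nat.card XT := by
    rw [card_XT]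
    decide +kernel
  exact B0D.scheme (X := XT) MSch.b0 (fun x => c_trans _ x) (d := dd) rfl hd
    (by decide) hs (e := 7) (by decide +kernel) subsets i

end Mon

/-- **The Monster, `p = 3`.** -/
theorem m_three {S : Type u} [Group S] (h : Spor.IsoM S) : KD 3 S := by
  obtain ⟨e⟩ := H816.IMM.exists_equiv h
  have := H816.MSch.finite_G
  have h1 : B0D 3 S 196883 := (Mon.b0 1).congr e.symm
  have h2 : B0D 3 S 842609326 := (Mon.b0 2).congr e.symm
  exact KD.common 59 h1 h2 (by norm_num) (by norm_num) (by norm_num) (by norm_num) (by norm_num) (by norm_num)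
    (by norm_num) (by norm_num) (by norm_num)

/-- **The Monster, `p = 2`.** -/
theorem m_two {S : Type u} [Group S] (h : Spor.IsoM S) : KD 2 S := by
  have hfin : Finite S := by
    obtain ⟨e⟩ := H816.IMM.exists_equiv h
    have := H816.MSch.finite_G
    exact Finite.of_equiv _ e.symm.toEquiv
  obtain ⟨χ, h1, h2, h3⟩ := Cfsg.Agent.H693.Sch.Monster.rat_m h (d := 196883)
    (by simp [Cfsg.Agent.H693.Sch.Monster.degs])
  obtain ⟨ψ, k1, k2, k3⟩ := Cfsg.Agent.H693.Sch.Monster.rat_m h (d := 36173193327999)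
    (by simp [Cfsg.Agent.H693.Sch.Monster.degs])
  have hb : B0D 2 S 196883 := B0D.of_rat χ.2 h3 h1 (by decide)
  have hb' : B0D 2 S 36173193327999 := B0D.of_rat ψ.2 k3 k1 (by decide)
  exact KD.common 59 hb hb' (by norm_num) (by norm_num) (by norm_num) (by norm_num) (by norm_num) (by norm_num)
    (by norm_num) (by norm_num) (by norm_num)

end Cfsg.Agent.H58.BD.BM
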